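import Mathlib
import Cfsg.Agent.Lib.Helper98.BG.SigmaDefs
import Cfsg.Agent.Lib.Helper13.BG.S1427A
import Cfsg.Agent.Lib.Helper67.BG.Basics

/-!
SIGMA13 project (helper98), package F (helper86): `lemF : Cfsg.Agent.Lib.Helper98.BG13.LemF`.

`E ≤ N_G(Q)` a complement of `M_σ` in `M`, `P ≤ E` of order `p ∈ τ₁(M)`, and `X₁ ≤ M ∩ C(P)` of
order `r' ∈ β(H)`.  Then `C_{M_σ}(P) ≤ H`.

Proof.  `r' ∈ α(H)`, so `r' ∈ σ(H)` and `r' ∉ σ(M)` (`alpha_sigma_disjoint`).
`C_M(P) = C_E(P) C_{M_σ}(P)` (a complement again), so `C_E(P)` has index prime to `r'` in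
`C_M(P)` and some `C_M(P)`-conjugate `R₀` of `X₁` lies in `C_E(P)`.  By S1428,
`C_{M_σ}(P) ≤ C(R₀)`; and `R₀ ≤ E ≤ N_G(Q) ≤ H` has order `r' ∈ β(H)`, so `C(R₀) ≤ H` by S1423.
-/

set_option autoImplicit false

namespace Cfsg.Agent.Lib.Helper86.BG

open Cfsg Cfsg.Agent.Lib.Helper46 Cfsg.Agent.Lib.Helper35.BG Cfsg.Agent.Lib.Helper13.BG

universe u

/-- If `E` is a complement in `M` of a subgroup `S` normalized by `M`, and `P ≤ E`, then
`C_E(P)` is a complement of `C_S(P)` in `C_M(P)`. -/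
theorem f_isComplIn_centralizer {G : Type*} [Group G] {E S M P : Subgroup G}
    (hE : IsComplIn E S M) (hSn : M ≤ Subgroup.normalizer (S : Set G)) (hPE : P ≤ E) :
    IsComplIn (E ⊓ Subgroup.centralizer (P : Set G)) (S ⊓ Subgroup.centralizer (P : Set G))
      (M ⊓ Subgroup.centralizer (P : Set G)) := by
  obtain ⟨hEM, hSM, hES, hprod⟩ := hE
  refine ⟨inf_le_inf_right _ hEM, inf_le_inf_right _ hSM, ?_, ?_⟩
  · apply le_bot_iff.mp
    rw [← hES]
    exact inf_le_inf inf_le_left inf_le_left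
  · intro l hl
    obtain ⟨e, he, s, hs, rfl⟩ := hprod l hl.1
    have hkey : ∀ x ∈ P, x * e = e * x ∧ x * s = s * x := by
      intro x hx
      have hc : x * (e * s) = (e * s) * x := (Subgroup.mem_centralizer_iff.mp hl.2) x hx
      have hxE : x ∈ E := hPE hx
      have hxM : x ∈ M := hEM hxE
      have h1 : x⁻¹ * s * x * s⁻¹ ∈ S := by
        refine Subgroup.mul_mem _ ?_ (Subgroup.inv_mem _ hs)
        have h := (Subgroup.mem_normalizer_iff.mp (hSn hxM) (x⁻¹ * s * x)).mpr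
        apply h
        have e1 : x * (x⁻¹ * s * x) * x⁻¹ = s := by group
        rw [e1]; exact hs
      have h2 : x⁻¹ * s * x * s⁻¹ = x⁻¹ * (e⁻¹ * x * e) := by
        have e1 : e⁻¹ * x * e = e⁻¹ * (x * (e * s)) * s⁻¹ := by group
        rw [e1, hc]; group
      have h3 : x⁻¹ * (e⁻¹ * x * e) ∈ E :=
        Subgroup.mul_mem _ (Subgroup.inv_mem _ hxE)
          (Subgroup.mul_mem _ (Subgroup.mul_mem _ (Subgroup.inv_mem _ he) hxE) he)
      have h4 : x⁻¹ * (e⁻¹ * x * e) = 1 := by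
        have : x⁻¹ * (e⁻¹ * x * e) ∈ E ⊓ S := ⟨h3, h2 ▸ h1⟩
        rw [hES] at this
        exact Subgroup.mem_bot.mp this
      have h5 : x * e = e * x := by
        have e1 : x * e = e * x * (x⁻¹ * (e⁻¹ * x * e)) := by group
        rw [e1, h4, mul_one]
      refine ⟨h5, ?_⟩
      have e2 : x * s = e⁻¹ * (x * (e * s)) := by
        rw [← mul_assoc x e s, h5]; group
      rw [e2, hc]; group
    have heC : e ∈ Subgroup.centralizer (P : Set G) :=
      Subgroup.mem_centralizer_iff.mpr fun x hx => (hkey x hx).1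
    have hsC : s ∈ Subgroup.centralizer (P : Set G) :=
      Subgroup.mem_centralizer_iff.mpr fun x hx => (hkey x hx).2
    exact ⟨e, ⟨he, heC⟩, s, ⟨hs, hsC⟩, rfl⟩

/-- Package F of the SIGMA13 project. -/
theorem lemF : Cfsg.Agent.Lib.Helper98.BG13.LemF.{u} := by
  intro G _ _ hG hy M H Q q hb E hEN hE p P hp hPE hP r' X₁ hr' hX₁ hX₁M hX₁P
  classical
  have hr'p : r'.Prime := hr'.1.1
  haveI : Fact r'.Prime := ⟨hr'p⟩
  have hM := hb.hM
  have hH := hb.hH
  -- `r' ∈ σ(H)`, `r' ∉ σ(M)`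
  have hr'σH : r' ∈ sigma H :=
    Cfsg.Agent.Lib.Helper46.BG.mem_sigma_of_mem_alpha hG hy.h1405 hH hr'.1
  have hr'σM : r' ∉ sigma M := fun h =>
    alpha_sigma_disjoint hG hy.h1403 hM hH hb.hnc hr'.1 h
  -- the complement inside `C_M(P)`
  have hSn : M ≤ Subgroup.normalizer (sigmaCore M : Set G) :=
    Cfsg.Agent.Lib.Helper67.BG.sigmaCore_normalizer M
  have hcompl := f_isComplIn_centralizer hE hSn hPE
  have hnd : ¬ r' ∣ (E ⊓ Subgroup.centralizer (P : Set G)).relIndex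
      (M ⊓ Subgroup.centralizer (P : Set G)) := by
    rw [relIndex_left_of_isComplIn hcompl]
    intro hdvd
    exact hr'σM (Cfsg.Agent.Lib.Helper67.BG.sigmaCore_isPi M r' hr'p
      (hdvd.trans (Subgroup.card_dvd_of_le inf_le_left)))
  have hX₁p : IsPGroup r' X₁ := IsPGroup.of_card (n := 1) (by rw [hX₁, pow_one])
  obtain ⟨l, -, hle⟩ :=
    exists_conj_le_of_not_dvd_relIndex hX₁p (le_inf hX₁M hX₁P) hcompl.1 hnd
  obtain ⟨R0, hR0def⟩ : ∃ R0 : Subgroup G, R0 = X₁.map (MulAut.conj l).toMonoidHom := ⟨_, rfl⟩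
  rw [← hR0def] at hle
  have hR0card : Nat.card R0 = r' := by rw [hR0def, card_map_conj, hX₁]
  have h28 := hy.h1428 M hM E hE p hp P hPE hP R0 hle (by rw [hR0card]; exact hr'p)
  have hR0H : R0 ≤ H := (hle.trans inf_le_left).trans (hEN.trans hb.hNH)
  have h23 := hy.h1423 H hH r' hr'σH R0 hR0H hR0card default (Or.inl hr')
  exact (h28.trans inf_le_right).trans h23.1.1

end Cfsg.Agent.Lib.Helper86.BG
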